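import Mathlib
import Groth.Prelude.Def_W4c1limliniiiiRamP1

set_option autoImplicit false
universe u

namespace Groth.Agent.Wron8
open Polynomial

variable {k : Type u} [Field k]

theorem core (p : ℕ) [CharP k p] (s t : k[X]) (a : k) (hs : s ≠ 0) (hsa : s.eval a = 0) (hta : t.eval a ≠ 0)
    (hW : wronskian s t ≠ 0) (hp : p = 0 ∨ (wronskian s t).rootMultiplicity a < p) :
    s.rootMultiplicity a = (wronskian s t).rootMultiplicity a + 1 ∧ ¬ p ∣ s.rootMultiplicity a := by
  obtain ⟨s1, hs1, hnd⟩ := exists_eq_pow_rootMultiplicity_mul_and_not_dvd s hs a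
  set m := s.rootMultiplicity a with hm
  have hm1 : 0 < m := (rootMultiplicity_pos hs).mpr hsa
  obtain ⟨j, hj⟩ : ∃ j, m = j + 1 := ⟨m - 1, by omega⟩
  set Q : k[X] := (X - C a) * (s1 * derivative t - derivative s1 * t) - C (m : k) * (s1 * t) with hQ
  have hfac : wronskian s t = (X - C a) ^ j * Q := by
    rw [wronskian, hs1, derivative_mul, derivative_pow, derivative_sub, derivative_X, derivative_C, sub_zero, mul_one, hQ, hj, Nat.add_sub_cancel]
    ring
  have hQ0 : Q ≠ 0 := fun h => hW (by rw [hfac, h, mul_zero])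
  have hWm : (wronskian s t).rootMultiplicity a = j + Q.rootMultiplicity a := by
    rw [hfac, rootMultiplicity_mul (mul_ne_zero (pow_ne_zero _ (X_sub_C_ne_zero a)) hQ0), rootMultiplicity_X_sub_C_pow]
  have hQa : Q.eval a = -((m : k) * (s1.eval a * t.eval a)) := by simp [hQ]
  have hs1a : s1.eval a ≠ 0 := fun h => hnd (dvd_iff_isRoot.mpr h)
  have hnp : ¬ p ∣ m := by
    intro hd
    rcases hp with rfl | hp
    · exact absurd (Nat.eq_zero_of_zero_dvd hd) (by omega)
    · have hpm := Nat.le_of_dvd hm1 hd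
      have hroot : 0 < Q.rootMultiplicity a := (rootMultiplicity_pos hQ0).mpr (by
        show Q.eval a = 0
        rw [hQa, (CharP.cast_eq_zero_iff k p m).mpr hd]; simp)
      omega
  have hQm : Q.rootMultiplicity a = 0 := rootMultiplicity_eq_zero (by
    show ¬ Q.eval a = 0
    rw [hQa, neg_eq_zero]
    exact mul_ne_zero (fun h => hnp ((CharP.cast_eq_zero_iff k p m).mp h)) (mul_ne_zero hs1a hta))
  exact ⟨by omega, hnp⟩

theorem main (p : ℕ) [CharP k p] (d : ℕ) (F G : k[X]) (hV : W4c1limliniiii.IsPencil d (Submodule.span k {F, G}))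
    (hW : wronskian F G ≠ 0) (a : k) (e : ℕ)
    (he : (wronskian F G).rootMultiplicity a + 1 = e) (hp : p = 0 ∨ e - 1 < p) :
    W4c1limliniiii.HasRamIdx (Submodule.span k {F, G}) a e ∧ ¬ p ∣ e := by
  classical
  set V := Submodule.span k ({F, G} : Set k[X])
  have hF : F ∈ V := Submodule.subset_span (by simp)
  have hG : G ∈ V := Submodule.subset_span (by simp)
  obtain ⟨s, t, c, hs, ht, hsa, hta, hc, hWc, hgen⟩ : ∃ (s t : k[X]) (c : k), s ∈ V ∧ t ∈ V ∧ s.eval a = 0 ∧ t.eval a ≠ 0 ∧ c ≠ 0 ∧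
      wronskian s t = C c * wronskian F G ∧ ∀ u ∈ V, ∃ α β : k, u = α • s + β • t := by
    by_cases hGa : G.eval a = 0
    · obtain ⟨u, hu, hua⟩ := hV.2.2.2 a
      have hFa : F.eval a ≠ 0 := by
        intro h
        obtain ⟨α, β, rfl⟩ := Submodule.mem_span_pair.mp hu
        simp [h, hGa] at hua
      refine ⟨G, F, -1, hG, hF, hGa, hFa, neg_ne_zero.mpr one_ne_zero, by rw [map_neg, map_one, neg_one_mul, wronskian_neg_eq], fun u hu => ?_⟩
      obtain ⟨α, β, rfl⟩ := Submodule.mem_span_pair.mp hu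
      exact ⟨β, α, add_comm _ _⟩
    · refine ⟨G.eval a • F - F.eval a • G, G, G.eval a, Submodule.sub_mem _ (Submodule.smul_mem _ _ hF) (Submodule.smul_mem _ _ hG), hG, ?_, hGa, hGa, ?_, fun u hu => ?_⟩
      · simp [mul_comm]
      · rw [wronskian, wronskian, derivative_sub, derivative_smul, derivative_smul]
        simp only [smul_eq_C_mul]; ring
      · obtain ⟨α, β, rfl⟩ := Submodule.mem_span_pair.mp hu
        refine ⟨α / G.eval a, β + α * F.eval a / G.eval a, ?_⟩
        match_scalars <;> field_simp <;> ring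
  have hW' : wronskian s t ≠ 0 := by rw [hWc]; exact mul_ne_zero (by simpa using hc) hW
  have hs0 : s ≠ 0 := fun h => hW' (by rw [h, wronskian_zero_left])
  have hmult : (wronskian s t).rootMultiplicity a = (wronskian F G).rootMultiplicity a := by
    rw [hWc, rootMultiplicity_mul (hWc ▸ hW'), rootMultiplicity_C, zero_add]
  obtain ⟨h1, h2⟩ := core p s t a hs0 hsa hta hW' (by rcases hp with h | h; exact Or.inl h; right; omega)
  rw [hmult, he] at h1
  refine ⟨⟨⟨s, hs, hs0, h1.ge⟩, fun u hu hu0 => ?_⟩, h1 ▸ h2⟩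
  obtain ⟨α, β, rfl⟩ := hgen u hu
  by_cases hβ : β = 0
  · subst hβ
    have hα : α ≠ 0 := by rintro rfl; simp at hu0
    rw [zero_smul, add_zero, smul_eq_C_mul, rootMultiplicity_mul (mul_ne_zero (by simpa using hα) hs0), rootMultiplicity_C, zero_add]
    exact h1.le
  · rw [rootMultiplicity_eq_zero (by simp [IsRoot, hsa, hβ, hta])]
    exact Nat.zero_le _

end Groth.Agent.Wron8
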